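import Groth.Agent.ZBMove.Curve
import Groth.Agent.CycLib.RatSum
import Groth.Agent.H23.RatSec

/-!
# Moving lemma for zero-cycles
-/

set_option autoImplicit false
set_option backward.isDefEq.respectTransparency false
set_option backward.isDefEq.respectTransparency.types false

universe u

open CategoryTheory AlgebraicGeometry TopologicalSpace

namespace Groth.Agent.ZBMove

variable {k : Type u} [Field k] {W : Scheme.{u}} (q : W ⟶ Spec (CommRingCat.of k)) [LocallyOfFiniteType q]
  [IsIntegral W] [CompactSpace W] {δ : W → ℤ} (hδ : Cyc.DeltaCompat q δ (fun _ => 0))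

include hδ

/-- A zero-cycle on a variety with regular closed points in which finitely many closed points lie in an affine open can
be moved into any given nonempty open. -/
theorem exists_ratEquiv_supported (U : W.Opens) (hU : (U : Set W).Nonempty)
    (haff : ∀ T : Finset W, (∀ x ∈ T, IsClosed ({x} : Set W)) → ∃ A : W.Opens, IsAffineOpen A ∧ ∀ x ∈ T, x ∈ A)
    (hreg : ∀ w : W, IsClosed ({w} : Set W) → IsRegularLocalRing (W.presheaf.stalk w))
    (z : AlgebraicCycle W ℤ) (hz : z ∈ Cyc.Zk W δ 0) :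
    ∃ z' : AlgebraicCycle W ℤ, z' ∈ Cyc.Zk W δ 0 ∧ (∀ w, z' w ≠ 0 → w ∈ U) ∧ Cyc.RatEquiv δ 0 z z' := by
  classical
  haveI : IsLocallyNoetherian W := LocallyOfFiniteType.isLocallyNoetherian q
  have hd := isDimFun q hδ
  have hsupp : (Function.support z).Finite := by
    simpa using z.locallyFiniteSupport.finite_inter_support_of_isCompact (W := Set.univ) isCompact_univ
  let ι := {w : W // z w ≠ 0 ∧ w ∉ U}
  haveI : Finite ι := (hsupp.subset fun w (hw : z w ≠ 0 ∧ w ∉ U) => hw.1).to_subtype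
  haveI : Fintype ι := Fintype.ofFinite ι
  have hw0 : ∀ i : ι, δ i.1 = 0 := fun i => by
    by_contra h
    exact i.2.1 (hz _ h)
  choose ξ f hξ hf hfw hfx using fun i : ι => exists_divFun q hδ U hU haff i.1 i.2.2 (hw0 i)
    (hreg i.1 (isClosed_of_delta_eq_zero q hδ (hw0 i)))
  let g : ∀ i, W.residueField (ξ i) := fun i => f i ^ z i.1
  have hg : ∀ i, g i ≠ 0 := fun i => zpow_ne_zero _ (hf i)
  have hloc : ∀ x : W, ∃ V : Set W, IsOpen V ∧ x ∈ V ∧ {i | (closure {ξ i} ∩ V).Nonempty}.Finite :=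
    fun x => ⟨Set.univ, isOpen_univ, trivial, Set.toFinite _⟩
  let D := CycLib.sumDiv hd ξ g hg hloc
  have hD : ∀ x, D x = ∑ i, z i.1 * Cyc.divFun δ (ξ i) (f i) x := fun x => by
    show CycLib.sumDiv hd ξ g hg hloc x = _
    rw [CycLib.sumDiv_apply, finsum_eq_sum_of_fintype]
    exact Finset.sum_congr rfl fun i _ => H23.RatSec.divFun_zpow hd (hf i) _ x
  refine ⟨z - D, fun x hx => ?_, fun x hx => ?_, ι, ξ, g, fun i => by rw [hξ i]; norm_num, hg, hloc, fun x => ?_⟩
  · have h2 : D x = 0 := by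
      rw [hD]
      refine Finset.sum_eq_zero fun i _ => ?_
      rw [CycLib.divFun_eq_zero_of_delta δ (f i) (by rw [hξ i]; omega), mul_zero]
    show z x - D x = 0
    rw [hz x hx, h2, sub_zero]
  · by_contra hxU
    apply hx
    show z x - D x = 0
    rw [hD, sub_eq_zero]
    by_cases hzx : z x = 0
    · rw [hzx, Finset.sum_eq_zero fun i _ => ?_]
      rw [hfx i x hxU fun h => i.2.1 (h ▸ hzx), mul_zero]
    · rw [Finset.sum_eq_single (⟨x, hzx, hxU⟩ : ι) (fun i _ hi => ?_) (fun h => absurd (Finset.mem_univ _) h)]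
      · rw [hfw ⟨x, hzx, hxU⟩, mul_one]
      · rw [hfx i x hxU fun h => hi (Subtype.ext h.symm), mul_zero]
  · show z x - (z x - D x) = _
    rw [sub_sub_cancel]
    rfl

end Groth.Agent.ZBMove
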