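import Groth.Agent.RegLoc6.Basic

/-!
# Smooth germs of curves in a regular local ring, avoiding a given element
-/

set_option autoImplicit false

universe u

open IsLocalRing

namespace Groth.Agent.ZBMove

theorem exists_curve_prime : ∀ (n : ℕ) (R : Type u) [CommRing R] [IsRegularLocalRing R],
    (maximalIdeal R).spanFinrank = n + 1 → ∀ g : R, g ≠ 0 →
      ∃ P : Ideal R, P.IsPrime ∧ g ∉ P ∧ ringKrullDim (R ⧸ P) = 1 ∧
        ∃ t : R, maximalIdeal R = P ⊔ Ideal.span {t} := by
  intro n
  induction n with
  | zero =>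
    intro R _ _ hn g hg
    haveI := RegLoc6.isDomain_of_isRegularLocalRing R
    have hfg : (maximalIdeal R).FG := (maximalIdeal R).fg_of_isNoetherianRing
    obtain ⟨t, ht⟩ : ∃ t : R, maximalIdeal R = Ideal.span {t} := by
      obtain ⟨t, ht⟩ := Set.ncard_eq_one.1 ((Submodule.FG.generators_ncard hfg).trans hn)
      exact ⟨t, by rw [← ht]; exact (Submodule.span_generators _).symm⟩
    refine ⟨⊥, Ideal.isPrime_bot, by simpa using hg, ?_, t, by rw [bot_sup_eq, ← ht]⟩
    rw [ringKrullDim_eq_of_ringEquiv (RingEquiv.quotientBot R), ← (isRegularLocalRing_iff R).mp ‹_›, hn]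
    rfl
  | succ n ih =>
    intro R _ _ hn g hg
    classical
    haveI := RegLoc6.isDomain_of_isRegularLocalRing R
    have hf : ¬ IsField R := by
      intro h
      rw [IsLocalRing.isField_iff_maximalIdeal_eq.1 h, Submodule.spanFinrank_bot] at hn
      omega
    have hheight : (maximalIdeal R).height = ((n + 2 : ℕ) : ℕ∞) := by
      have := maximalIdeal_height_eq_ringKrullDim (R := R)
      rw [← (isRegularLocalRing_iff R).mp ‹_›, hn] at this
      exact_mod_cast this
    have hmne : ∀ q ∈ (Ideal.span {g}).minimalPrimes, ¬ maximalIdeal R ≤ q := by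
      intro q hq hle
      haveI := hq.1.1
      have hqm : q = maximalIdeal R :=
        le_antisymm (IsLocalRing.le_maximalIdeal Ideal.IsPrime.ne_top') hle
      have h := Ideal.height_le_one_of_isPrincipal_of_mem_minimalPrimes (Ideal.span {g}) q hq
      rw [hqm, hheight] at h
      norm_cast at h
    obtain ⟨x, hx, hx', hxq⟩ : ∃ x ∈ maximalIdeal R, x ∉ maximalIdeal R ^ 2 ∧
        ∀ q ∈ (Ideal.span {g}).minimalPrimes, x ∉ q := by
      by_contra! hc
      let fs : Finset (Ideal R) :=
        insert (maximalIdeal R ^ 2) ((Ideal.span {g}).finite_minimalPrimes_of_isNoetherianRing R).toFinset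
      have hsub : (maximalIdeal R : Set R) ⊆ ⋃ p ∈ (fs : Set (Ideal R)), (p : Set R) := by
        intro x hx
        by_cases h2 : x ∈ maximalIdeal R ^ 2
        · exact Set.mem_biUnion (show maximalIdeal R ^ 2 ∈ (fs : Set (Ideal R)) by simp [fs]) h2
        · obtain ⟨q, hq, hxq⟩ := hc x hx h2
          exact Set.mem_biUnion (show q ∈ (fs : Set (Ideal R)) by simp [fs, hq]) hxq
      obtain ⟨p, hp, hle⟩ := (Ideal.subset_union_prime (maximalIdeal R ^ 2) (maximalIdeal R ^ 2)
        (fun p hp hne _ => by
          rcases Finset.mem_insert.mp hp with h' | h'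
          · exact absurd h' hne
          · exact ((Set.Finite.mem_toFinset _).mp h').1.1)).mp hsub
      rcases Finset.mem_insert.mp hp with rfl | h'
      · exact RegLoc6.maximalIdeal_sq_ne hf hle
      · exact hmne p ((Set.Finite.mem_toFinset _).mp h') hle
    haveI := RegLoc6.isLocalRing_quot hx
    obtain ⟨hreg, hdim⟩ := RegLoc6.isRegularLocalRing_quot_and hx hx'
    haveI := hreg
    haveI := RegLoc6.isDomain_of_isRegularLocalRing (R ⧸ Ideal.span {x})
    have hn' : (maximalIdeal (R ⧸ Ideal.span {x})).spanFinrank = n + 1 := by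
      rw [← (isRegularLocalRing_iff R).mp ‹_›, ← (isRegularLocalRing_iff _).mp hreg, hn] at hdim
      norm_cast at hdim
      omega
    have hP : (Ideal.span {x}).IsPrime := (Ideal.Quotient.isDomain_iff_prime _).mp inferInstance
    have hg' : Ideal.Quotient.mk (Ideal.span {x}) g ≠ 0 := by
      intro h0
      rw [Ideal.Quotient.eq_zero_iff_mem] at h0
      obtain ⟨q, hq, hqle⟩ := Ideal.exists_minimalPrimes_le ((Ideal.span_singleton_le_iff_mem _).2 h0)
      haveI := hq.1.1
      have hq0 : q = ⊥ := by
        refine Submodule.eq_bot_of_le_smul_of_le_jacobson_bot (maximalIdeal R) q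
          q.fg_of_isNoetherianRing (fun y hy => ?_) (IsLocalRing.maximalIdeal_le_jacobson _)
        obtain ⟨a, rfl⟩ := Ideal.mem_span_singleton.mp (hqle hy)
        exact Submodule.smul_mem_smul hx ((Ideal.IsPrime.mem_or_mem ‹q.IsPrime› hy).resolve_left (hxq q hq))
      exact hg (by simpa [hq0] using hq.1.2 (Ideal.mem_span_singleton_self g))
    obtain ⟨P', hP', hgP', hdim', t', ht'⟩ := ih (R ⧸ Ideal.span {x}) hn' _ hg'
    obtain ⟨t, rfl⟩ := Ideal.Quotient.mk_surjective t'
    haveI := hP'
    let φ := Ideal.Quotient.mk (Ideal.span {x})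
    refine ⟨P'.comap φ, inferInstance, hgP', ?_, t, ?_⟩
    · rw [← hdim']
      have hk : RingHom.ker ((Ideal.Quotient.mk P').comp φ) = P'.comap φ := by
        rw [← RingHom.comap_ker, Ideal.mk_ker]
      exact ringKrullDim_eq_of_ringEquiv ((Ideal.quotEquivOfEq hk.symm).trans
        (RingHom.quotientKerEquivOfSurjective
          (f := (Ideal.Quotient.mk P').comp φ) (Ideal.Quotient.mk_surjective.comp Ideal.Quotient.mk_surjective)))
    · haveI : IsLocalHom φ := IsLocalHom.of_surjective φ Ideal.Quotient.mk_surjective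
      have h1 : maximalIdeal R = (maximalIdeal (R ⧸ Ideal.span {x})).comap φ :=
        (IsLocalRing.maximalIdeal_comap φ).symm
      rw [h1, ht', ← Ideal.map_comap_of_surjective φ Ideal.Quotient.mk_surjective P',
        show Ideal.span {φ t} = (Ideal.span {t}).map φ by rw [Ideal.map_span, Set.image_singleton],
        ← Ideal.map_sup, Ideal.comap_map_of_surjective _ Ideal.Quotient.mk_surjective, ← RingHom.ker_eq_comap_bot,
        Ideal.mk_ker, Ideal.map_comap_of_surjective φ Ideal.Quotient.mk_surjective, sup_eq_left]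
      refine le_trans ?_ le_sup_left
      rw [Ideal.span_singleton_le_iff_mem, Ideal.mem_comap, Ideal.Quotient.eq_zero_iff_mem.2 (Ideal.mem_span_singleton_self x)]
      exact P'.zero_mem

end Groth.Agent.ZBMove
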