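import Groth.Agent.ZBMove.Alg
import Groth.Agent.CycLib.Div
import Groth.Agent.CycLib.LFT
import Groth.Agent.CycLib.P1Div
import Groth.Agent.CycLib.Finite
import Groth.Agent.TameKey.DvrNorm

/-!
# Moving a closed point into an open set along a curve smooth at it
-/

set_option autoImplicit false
set_option backward.isDefEq.respectTransparency false
set_option backward.isDefEq.respectTransparency.types false
set_option maxHeartbeats 800000

universe u

open CategoryTheory AlgebraicGeometry TopologicalSpace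

namespace Groth.Agent.ZBMove

variable {k : Type u} [Field k] {W : Scheme.{u}} (q : W ⟶ Spec (CommRingCat.of k)) [LocallyOfFiniteType q]
  {δ : W → ℤ} (hδ : Cyc.DeltaCompat q δ (fun _ => 0))

include hδ

theorem isDimFun : Cyc.IsDimFun W δ :=
  CycLib.isDimFun_of_deltaCompat q (CycLib.isSetup_spec_field k) hδ

omit [LocallyOfFiniteType q] in
theorem delta_nonneg (x : W) : 0 ≤ δ x := by
  obtain ⟨n, -, h⟩ := hδ x
  rw [h]
  simp

theorem isClosed_of_delta_eq_zero {x : W} (hx : δ x = 0) : IsClosed ({x} : Set W) := by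
  refine closure_subset_iff_isClosed.1 fun y hy => ?_
  have h : x ⤳ y := specializes_iff_mem_closure.2 hy
  exact (CycLib.eq_of_delta_le (isDimFun q hδ) h (by have := delta_nonneg q hδ y; omega)).symm

theorem delta_eq_zero_of_isClosed {x : W} (hx : IsClosed ({x} : Set W)) : δ x = 0 := by
  haveI : JacobsonSpace W := LocallyOfFiniteType.jacobsonSpace q
  have h := VarDim.closedPoint_iff_deg_eq_zero q x
  obtain ⟨n, hn, hδx⟩ := hδ x
  have h2 : VarDim.rdeg q x = n := hn
  rw [← VarDim.tdeg_eq_rdeg, ← VarDim.deg_eq_tdeg, Nat.cast_inj] at h2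
  rw [hδx, zero_add, ← h2, h.1 hx]
  rfl

variable [IsIntegral W]

/-- Through a point with regular local ring there is a curve, smooth there and meeting any given nonempty open, with a
function which has order one at the point and is a unit at the other points outside the open. -/
theorem exists_divFun [CompactSpace W] (U : W.Opens) (hU : (U : Set W).Nonempty)
    (haff : ∀ T : Finset W, (∀ x ∈ T, IsClosed ({x} : Set W)) → ∃ A : W.Opens, IsAffineOpen A ∧ ∀ x ∈ T, x ∈ A)
    (w : W) (hwU : w ∉ U) (hw : δ w = 0) (hreg : IsRegularLocalRing (W.presheaf.stalk w)) :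
    ∃ (ξ : W) (f : W.residueField ξ), δ ξ = 1 ∧ f ≠ 0 ∧
      Cyc.divFun δ ξ f w = 1 ∧ ∀ x, x ∉ U → x ≠ w → Cyc.divFun δ ξ f x = 0 := by
  classical
  haveI : IsLocallyNoetherian W := LocallyOfFiniteType.isLocallyNoetherian q
  haveI := hreg
  have hd := isDimFun q hδ
  have hηU : genericPoint W ∈ U := (genericPoint_specializes hU.choose).mem_open U.2 hU.choose_spec
  have hne : genericPoint W ≠ w := fun h => hwU (h ▸ hηU)
  -- an element of the local ring off whose zero set lies in `U`
  obtain ⟨_, ⟨V, hV, rfl⟩, hwV, -⟩ := W.isBasis_affineOpens.exists_subset_of_mem_open (Set.mem_univ w) isOpen_univ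
  have hV' : IsAffineOpen V := hV
  have hηV : genericPoint W ∈ V := (genericPoint_specializes w).mem_open V.2 hwV
  obtain ⟨a, haU, hηa⟩ := hV'.exists_basicOpen_le (V := U) ⟨genericPoint W, hηU⟩ hηV
  let R := W.presheaf.stalk w
  let g : R := W.presheaf.germ V w hwV a
  have hg : g ≠ 0 := by
    intro h0
    have h1 := TopCat.Presheaf.germ_stalkSpecializes_apply W.presheaf hwV (genericPoint_specializes w) a
    rw [show W.presheaf.germ V w hwV a = 0 from h0, map_zero] at h1
    exact (W.mem_basicOpen a _ hηV).1 hηa |>.ne_zero h1.symm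
  -- the curve
  obtain ⟨n, hn⟩ : ∃ n, (IsLocalRing.maximalIdeal R).spanFinrank = n + 1 := by
    refine Nat.exists_eq_add_of_le' (Nat.pos_of_ne_zero fun h0 => ?_)
    have h1 := (isRegularLocalRing_iff R).mp hreg
    rw [h0, CycLib.ringKrullDim_stalk_eq hd] at h1
    have h2 := CycLib.delta_lt hd (genericPoint_specializes w) hne
    have h3 : 0 = (δ (genericPoint W) - δ w).toNat := by exact_mod_cast h1
    omega
  obtain ⟨P, hP, hgP, hdimP, t, ht⟩ := exists_curve_prime n R hn g hg
  let Pt : PrimeSpectrum R := ⟨P, hP⟩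
  let ξ : W := W.fromSpecStalk w Pt
  have hξw : ξ ⤳ w := CDiv6.fromSpecStalk_specializes Pt
  have hprime : CDiv6.primeOf hξw = Pt := CDiv6.primeOf_fromSpecStalk Pt
  have hξU : ξ ∈ U := by
    refine haU ((W.mem_basicOpen a ξ (hξw.mem_open V.2 hwV)).2 ?_)
    by_contra hu
    apply hgP
    have h1 : g ∈ (CDiv6.primeOf hξw).asIdeal := by
      rw [CDiv6.mem_primeOf, TopCat.Presheaf.germ_stalkSpecializes_apply]
      exact hu
    rwa [hprime] at h1
  have hker : RingHom.ker (Cyc.specMap w ξ hξw) = P := by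
    rw [CycLib.ker_specMap, hprime]
  have hδξ : δ ξ = 1 := by
    have h1 := CycLib.ringKrullDim_locQuot hξw
    rw [show ringKrullDim (Cyc.LocQuot w ξ hξw) = ringKrullDim (R ⧸ P) from
      ringKrullDim_eq_of_ringEquiv (Ideal.quotEquivOfEq hker), hdimP] at h1
    have h2 : DimFormula.cd ξ w = 1 := by exact_mod_cast h1.symm
    have h3 := CycLib.cd_eq hd hξw
    omega
  have hwξ : w ≠ ξ := fun h => hwU (h ▸ hξU)
  -- the finite set of points outside `U`
  let Bad : Set W := closure {ξ} ∩ (U : Set W)ᶜ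
  have hBad0 : ∀ x ∈ Bad, δ x = 0 := fun x hx => by
    have h1 := CycLib.delta_lt hd (specializes_iff_mem_closure.2 hx.1) (fun h => hx.2 (h ▸ hξU))
    have h2 := delta_nonneg q hδ x
    omega
  have hBadF : Bad.Finite := by
    have hc : IsClosed Bad := isClosed_closure.inter U.2.isClosed_compl
    haveI : IsNoetherian W := ⟨⟩
    haveI : QuasiSober Bad := hc.isClosedEmbedding_subtypeVal.quasiSober
    refine Set.finite_coe_iff.1 (CycLib.finite_of_forall_maximal fun x z hzx => Subtype.ext ?_)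
    exact ((hzx.map continuous_subtype_val).mem_closed (isClosed_of_delta_eq_zero q hδ (hBad0 z.1 z.2)) rfl :
      x.1 = z.1).symm
  let T : Finset W := hBadF.toFinset
  have hwT : w ∈ T := hBadF.mem_toFinset.2 ⟨specializes_iff_mem_closure.1 hξw, hwU⟩
  obtain ⟨A, hA, hTA⟩ := haff T fun x hx => isClosed_of_delta_eq_zero q hδ (hBad0 x (hBadF.mem_toFinset.1 hx))
  have hA' : IsAffineOpen A := hA
  let M : {x // x ∈ T} → Ideal Γ(W, A) := fun x => (hA'.primeIdealOf ⟨x.1, hTA x.1 x.2⟩).asIdeal
  haveI hM : ∀ x, (M x).IsMaximal := fun x =>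
    hA'.primeIdealOf_isMaximal_of_isClosed _
      (isClosed_of_delta_eq_zero q hδ (hBad0 x.1 (hBadF.mem_toFinset.1 x.2)))
  have hMinj : Function.Injective M := fun x y h => by
    have h1 := congrArg (fun z => hA'.fromSpec z) (PrimeSpectrum.ext h : hA'.primeIdealOf ⟨x.1, hTA x.1 x.2⟩ =
      hA'.primeIdealOf ⟨y.1, hTA y.1 y.2⟩)
    simp only [IsAffineOpen.fromSpec_primeIdealOf] at h1
    exact Subtype.ext h1
  -- a local equation
  let w' : {x // x ∈ T} := ⟨w, hwT⟩
  letI : Algebra Γ(W, A) R := TopCat.Presheaf.algebra_section_stalk W.presheaf ⟨w, hTA w hwT⟩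
  haveI : IsLocalization.AtPrime R (M w') := hA'.isLocalization_stalk ⟨w, hTA w hwT⟩
  let L := Cyc.LocQuot w ξ hξw
  let ρ : Γ(W, A) →+* L := (Ideal.Quotient.mk _).comp (algebraMap Γ(W, A) R)
  have hmap : (M w').map ρ = IsLocalRing.maximalIdeal L := by
    rw [← Ideal.map_map, IsLocalization.AtPrime.map_eq_maximalIdeal (M w') R]
    exact IsLocalRing.map_maximalIdeal_of_surjective _ Ideal.Quotient.mk_surjective
  have hLf : ¬ IsField L := by
    intro hf
    haveI := hf.toField
    have h1 := CycLib.ringKrullDim_locQuot_eq_one hd hξw (by omega)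
    rw [ringKrullDim_eq_zero_of_isField hf] at h1
    exact zero_ne_one h1
  have hsq := RegLoc6.maximalIdeal_sq_ne (R := L) hLf
  obtain ⟨b, hb, hb2⟩ : ∃ b ∈ M w', ρ b ∉ IsLocalRing.maximalIdeal L ^ 2 := by
    by_contra! hc
    exact hsq (hmap.ge.trans (Ideal.map_le_iff_le_comap.2 fun x hx => Ideal.mem_comap.2 (hc x hx)))
  let I : {x // x ∈ T} → Ideal Γ(W, A) := fun x => if x = w' then M x ^ 2 else M x
  have hco : Pairwise fun x y => IsCoprime (I x) (I y) := by
    intro x y hxy
    have h0 : IsCoprime (M x) (M y) :=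
      Ideal.isCoprime_iff_sup_eq.2 ((hM x).coprime_of_ne (hM y) fun h => hxy (hMinj h))
    have hI : ∀ z, I z = M z ^ (if z = w' then 2 else 1) := fun z => by
      show ite _ _ _ = _
      split_ifs <;> simp
    show IsCoprime (I x) (I y)
    rw [hI, hI]
    exact h0.pow
  obtain ⟨c, hc⟩ := Ideal.quotientInfToPiQuotient_surj hco
    (fun x => Ideal.Quotient.mk (I x) (if x = w' then b else 1))
  obtain ⟨c, rfl⟩ := Ideal.Quotient.mk_surjective c
  have hcI : ∀ x, c - (if x = w' then b else 1) ∈ I x := fun x =>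
    Ideal.Quotient.eq.1 (by rw [← congrFun hc x]; exact (Ideal.quotientInfToPiQuotient_mk I c ▸ rfl))
  have hcw : ρ c ∉ IsLocalRing.maximalIdeal L ^ 2 ∧ ρ c ∈ IsLocalRing.maximalIdeal L := by
    have h1 : c - b ∈ M w' ^ 2 := by simpa [I] using hcI w'
    have h2 : ρ (c - b) ∈ IsLocalRing.maximalIdeal L ^ 2 := by
      rw [← hmap, ← Ideal.map_pow]; exact Ideal.mem_map_of_mem ρ h1
    refine ⟨fun h => hb2 ?_, ?_⟩
    · rw [show b = c - (c - b) by ring, map_sub]; exact Ideal.sub_mem _ h h2
    · rw [show c = (c - b) + b by ring, map_add]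
      exact Ideal.add_mem _ (Ideal.pow_le_self two_ne_zero h2) (hmap ▸ Ideal.mem_map_of_mem ρ hb)
  have hρc : ρ c ≠ 0 := fun h => hcw.1 (h ▸ Ideal.zero_mem _)
  have hξA : ξ ∈ A := hξw.mem_open A.2 (hTA w hwT)
  let f : W.residueField ξ := W.evaluation A ξ hξA c
  have hf : algebraMap L (W.residueField ξ) (ρ c) = f :=
    (CycLib.algebraMap_locQuot_mk hξw _).trans (CycLib.specMap_germ hξw A (hTA w hwT) c)
  refine ⟨ξ, f, hδξ, ?_, ?_, fun x hxU hxw => ?_⟩
  · rw [← hf]; exact (map_ne_zero_iff _ (FaithfulSMul.algebraMap_injective L _)).2 hρc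
  · rw [CycLib.divFun_eq δ f hξw (by omega), ← hf, CycLib.ordAt_algebraMap hd hξw (by omega) hρc]
    have hspan : IsLocalRing.maximalIdeal L = Ideal.span {ρ c} := by
      have hp : IsLocalRing.maximalIdeal L = Ideal.span {Ideal.Quotient.mk _ t} := by
        rw [← IsLocalRing.map_maximalIdeal_of_surjective
          (Ideal.Quotient.mk (RingHom.ker (Cyc.specMap w ξ hξw))) Ideal.Quotient.mk_surjective, ht,
          Ideal.map_sup, ← hker, Ideal.map_quotient_self, bot_sup_eq, Ideal.map_span, Set.image_singleton]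
      obtain ⟨r, hr⟩ := Ideal.mem_span_singleton'.1 (hp ▸ hcw.2)
      have hu : IsUnit r := by
        by_contra hr'
        apply hcw.1
        rw [← hr, sq, hp]
        exact Ideal.mul_mem_mul (hp ▸ (IsLocalRing.mem_maximalIdeal r).2 hr') (Ideal.mem_span_singleton_self _)
      rw [hp, ← hr, mul_comm, Ideal.span_singleton_mul_right_unit hu]
    haveI : Ring.KrullDimLE 1 L := CycLib.krullDimLE_locQuot hd hξw (by omega)
    rw [TameKey.ord_irreducible hspan]
    rfl
  · by_cases hx : ξ ⤳ x ∧ δ x + 1 = δ ξ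
    · have hxT : x ∈ T := hBadF.mem_toFinset.2 ⟨specializes_iff_mem_closure.1 hx.1, hxU⟩
      have hu : IsUnit (W.presheaf.germ A x (hTA x hxT) c) := by
        let x' : {x // x ∈ T} := ⟨x, hxT⟩
        have hne' : x' ≠ w' := fun h => hxw (congrArg Subtype.val h)
        have h1 : c - 1 ∈ M x' := by simpa [I, hne'] using hcI x'
        have h2 : c ∉ M x' := fun h => (hM x').ne_top ((Ideal.eq_top_iff_one _).2 (by simpa using Ideal.sub_mem _ h h1))
        letI : Algebra Γ(W, A) (W.presheaf.stalk x) := TopCat.Presheaf.algebra_section_stalk W.presheaf ⟨x, hTA x hxT⟩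
        haveI : IsLocalization.AtPrime (W.presheaf.stalk x) (M x') := hA'.isLocalization_stalk ⟨x, hTA x hxT⟩
        exact IsLocalization.map_units (W.presheaf.stalk x) (⟨c, h2⟩ : (M x').primeCompl)
      rw [CycLib.divFun_eq δ f hx.1 hx.2,
        show f = Cyc.specMap x ξ hx.1 (W.presheaf.germ A x (hTA x hxT) c) from
          (CycLib.specMap_germ hx.1 A (hTA x hxT) c).symm]
      exact CycLib.ordAt_eq_zero_of_isUnit hd hx.1 hx.2 hu
    · exact dif_neg hx

end Groth.Agent.ZBMove
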